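import Groth.Agent.LargestOpen.Instances
import Groth.Agent.AlgSpLib.Criteria

/-!
# Properties etale-smooth local on source and target
-/

universe u

open CategoryTheory CategoryTheory.Limits AlgebraicGeometry Opposite

set_option backward.isDefEq.respectTransparency false

namespace Groth.Agent.EtSmLocalST

open _root_.AlgSp Groth.Agent.AlgSpLib Groth.Agent.LargestOpen

variable {S : Scheme.{u}}

lemma smooth_of_etale {F G : Sp S} (hG : IsAlgSpace G) {g : F ⟶ G} (hg : IsEtaleMor g) : LocP @Smooth g :=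
  fun _ _ a b k ha hb comm => by
    have : Etale k.left := (isEtaleMor_iff_locP hG).1 hg a b k ha hb comm
    infer_instance

lemma isEtaleMor_id {F : Sp S} (hF : IsAlgSpace F) : IsEtaleMor (𝟙 F) :=
  good_etale.open_imm _ hF hF (repWith_of_isIso (𝟙 F))

variable {P : MorphismProperty (Sp S)} (hP : IsEtaleSmoothLocalST P)
include hP

theorem isLocalOnSource : IsLocalOnSource (IsEtCover (S := S)) P := by
  intro ι X Xi g hX hXi hg Y f hY
  refine ⟨fun h i => hP.precomp (hXi i) hX hY _ _ (hg.1 i) h, fun h => (hP.locality hX hY f).2 fun x => ?_⟩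
  obtain ⟨i, y, rfl⟩ := hg.2 x
  obtain ⟨V, W, U, b, p, q, e, v, hV, hW, hU, hb, sq, he, hv, hPe⟩ := (hP.locality (hXi i) hY _).1 (h i) y
  have sqf := IsPullback.of_hasPullback f b
  have hWf := isAlgSpace_of_isPullback_space hY hX hV sqf
  let l := sqf.lift (p ≫ g i) q (by rw [Category.assoc]; exact sq.w)
  have sql : IsPullback p l (g i) (pullback.fst f b) := by
    refine (IsPullback.of_bot ?_ (sqf.lift_fst _ _ _).symm sqf.flip.flip)
    rw [sqf.lift_snd]
    exact sq
  have hl : IsEtaleMor l := good_etale.baseChange p l (g i) _ hW (hXi i) hWf hX sql (hg.1 i)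
  refine ⟨V, _, U, b, pullback.fst f b, pullback.snd f b, e ≫ l, v, hV, hWf, hU, hb, sqf,
    good_etale.comp _ _ hU hW hWf he hl, ?_, ?_⟩
  · rw [Category.assoc, sqf.lift_fst, ← Category.assoc, Points.map_comp, hv]
  · rw [Category.assoc, sqf.lift_snd]
    exact hPe

theorem isLocalOnBase : IsLocalOnBase (IsSmCover (S := S)) P := by
  intro ι Y Yi g hY hYi hg X f hX Xi p q hXi sq
  refine ⟨fun h i => hP.baseChange hX hY (hXi i) (hYi i) f (g i) (p i) (q i) (sq i) (hg.1 i) h,
    fun h => (hP.locality hX hY f).2 fun x => ?_⟩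
  obtain ⟨i, y, hy⟩ := hg.2 (Points.map f x)
  obtain ⟨z, hz, -⟩ := exists_point_of_isPullback (sq i) x y hy.symm
  obtain ⟨V, W, U, b, p', q', e, v, hV, hW, hU, hb, sq', he, hv, hPe⟩ := (hP.locality (hXi i) (hYi i) _).1 (h i) z
  exact ⟨V, W, U, b ≫ g i, p' ≫ q i, q', e, v, hV, hW, hU, good_smooth.comp _ _ hV (hYi i) hY hb (hg.1 i),
    sq'.paste_horiz (sq i), he, by rw [← Category.assoc, Points.map_comp, hv, hz], hPe⟩

theorem postcomp {X Y Z : Sp S} (hX : IsAlgSpace X) (hY : IsAlgSpace Y) (hZ : IsAlgSpace Z) (f : X ⟶ Y)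
    (g : Y ⟶ Z) (hg : IsEtaleMor g) :
    (P f → P (f ≫ g)) ∧ (P (f ≫ g) → P f) := by
  have sq := IsPullback.of_hasPullback (f ≫ g) g
  have hW := isAlgSpace_of_isPullback_space hZ hX hY sq
  let e := sq.lift (𝟙 X) f (Category.id_comp _)
  have hfst : IsEtaleMor (pullback.fst (f ≫ g) g) := good_etale.baseChange _ _ g (f ≫ g) hW hY hX hZ sq.flip hg
  have he : IsEtaleMor e := isEtaleMor_of_comp hW hX (g := pullback.fst (f ≫ g) g)
    (by rw [sq.lift_fst]; exact isEtaleMor_id hX) hfst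
  refine ⟨fun h => (hP.locality hX hZ _).2 fun x => ⟨Y, _, X, g, _, _, e, x, hY, hW, hX, smooth_of_etale hZ hg, sq,
    he, ?_, ?_⟩, fun h => ?_⟩
  · rw [sq.lift_fst, Points.map_id]
  · rw [sq.lift_snd]
    exact h
  · have := hP.precomp hX hW hY e _ he (hP.baseChange hX hZ hW hY _ g _ _ sq (smooth_of_etale hZ hg) h)
    rwa [sq.lift_snd] at this

end Groth.Agent.EtSmLocalST
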